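import Mathlib
import Groth.Agent.Lib.ModM1.FibreProd
import Groth.Agent.Lib.ModM1.Pull
import Groth.Agent.Lib.DPerf.Amp
import Groth.Agent.Lib.DPerf.Tilde
import Groth.Agent.Lib.DPerf.Top
import Groth.Agent.Lib.PushFin12.Basic
import Groth.Agent.Lib.DirImg11.Basic
import Groth.Agent.Lib.ModFlat16.Basic
import Groth.Prelude.Def_RefHull

/-!
On a quasi-compact scheme with affine diagonal every quasi-coherent module is a quotient of a flat one
(ns `Groth.Agent.ResProp14`): `flatOn_pushforward`, `exists_flat_step`, `exists_flat_epi`.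
-/

set_option backward.isDefEq.respectTransparency.types false

universe u

open CategoryTheory Limits AlgebraicGeometry Opposite

namespace Groth.Agent.ResProp14

variable {X Z : Scheme.{u}}

theorem flatAt_restrict_iff (j : Z ⟶ X) [IsOpenImmersion j] (M : X.Modules) (z : Z) :
    FlatMod.IsFlatAt (M.restrict j) z ↔ FlatMod.IsFlatAt M (j z) := by
  unfold FlatMod.IsFlatAt
  let A := X.presheaf.stalk (j z)
  let B := Z.presheaf.stalk z
  letI : Algebra A B := (j.stalkMap z).hom.toAlgebra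
  have hb : Function.Bijective (algebraMap A B) :=
    ConcreteCategory.bijective_of_isIso (j.stalkMap z)
  let eAB : A ≃ₗ[A] B := LinearEquiv.ofBijective (Algebra.linearMap A B) hb
  haveI : Module.Flat A B := Module.Flat.of_linearEquiv eAB.symm
  have key : ∀ {P Q : Z.Modules} (f : P ≅ Q), Module.Flat B (P.presheaf.stalk z) → Module.Flat B (Q.presheaf.stalk z) := by
    intro P Q f hP
    exact Module.Flat.of_linearEquiv (M := (P.presheaf.stalk z : Type u))
      (LinearEquiv.ofBijective (RefHull.stalkMapₗ f.hom z) ((M1.isIso_iff_stalk f.hom).1 inferInstance z)).symm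
  constructor
  · intro h
    haveI : Module.Flat B (((Scheme.Modules.pullback j).obj M).presheaf.stalk z) :=
      key ((Scheme.Modules.restrictFunctorIsoPullback j).app M) h
    haveI : Module.Flat B (TensorProduct A B (M.presheaf.stalk (j z))) :=
      Module.Flat.of_linearEquiv (M2.pullStalkEquiv j z M)
    haveI : Module.Flat A (TensorProduct A B (M.presheaf.stalk (j z))) := Module.Flat.trans A B _
    exact Module.Flat.of_linearEquiv ((TensorProduct.lid A _).symm.trans
      (TensorProduct.congr eAB (LinearEquiv.refl A _)))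
  · intro h
    haveI : Module.Flat A (M.presheaf.stalk (j z)) := h
    haveI : Module.Flat B (((Scheme.Modules.pullback j).obj M).presheaf.stalk z) :=
      Module.Flat.of_linearEquiv (M2.pullStalkEquiv j z M).symm
    exact key ((Scheme.Modules.restrictFunctorIsoPullback j).app M).symm ‹_›

theorem flat_sections_of_flatOn {M : X.Modules} [Coh.IsQCoh M] {U : X.Opens} (hU : IsAffineOpen U)
    (h : ∀ x ∈ U, FlatMod.IsFlatAt M x) : Module.Flat Γ(X, U) Γ(M, U) := by
  let pt : ∀ P : Ideal Γ(X, U), P.IsMaximal → U := fun P hP =>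
    ⟨hU.fromSpec ⟨P, hP.isPrime⟩, hU.range_fromSpec.le ⟨_, rfl⟩⟩
  have hpt : ∀ (P : Ideal Γ(X, U)) (hP : P.IsMaximal), (hU.primeIdealOf (pt P hP)).asIdeal = P := fun P hP =>
    congrArg PrimeSpectrum.asIdeal (hU.fromSpec.isOpenEmbedding.injective (hU.fromSpec_primeIdealOf _)
      : hU.primeIdealOf (pt P hP) = (⟨P, hP.isPrime⟩ : PrimeSpectrum Γ(X, U)))
  letI (y : U) : Module Γ(X, U) (M.presheaf.stalk y.1) := M1.stalkModule M y.2
  have hloc : ∀ (P : Ideal Γ(X, U)) [hP : P.IsMaximal],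
      IsLocalizedModule.AtPrime P (M1.germₗ M (pt P hP).2) := by
    intro P hP
    have := M1.isLocalizedModule_germ M hU (pt P hP).2
    simp only [show (⟨(pt P hP).1, (pt P hP).2⟩ : U) = pt P hP from rfl, hpt] at this
    exact this
  refine @Module.flat_of_isLocalized_maximal Γ(X, U) Γ(X, U) _ _ _ Γ(M, U) _ _ _ _
    (fun P hP => M.presheaf.stalk (pt P hP).1) _ _ _ _ (fun P hP => M1.germₗ M (pt P hP).2) hloc ?_
  intro P hP
  let y := pt P hP
  letI := TopCat.Presheaf.algebra_section_stalk X.presheaf y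
  haveI := hU.isLocalization_stalk y
  haveI : IsScalarTower Γ(X, U) (X.presheaf.stalk y.1) (M.presheaf.stalk y.1) :=
    IsScalarTower.of_algebraMap_smul fun _ _ => rfl
  haveI : Module.Flat Γ(X, U) (X.presheaf.stalk y.1) :=
    IsLocalization.flat _ (hU.primeIdealOf y).asIdeal.primeCompl
  haveI : Module.Flat (X.presheaf.stalk y.1) (M.presheaf.stalk y.1) := h y.1 y.2
  exact Module.Flat.trans Γ(X, U) (X.presheaf.stalk y.1) (M.presheaf.stalk y.1)

/-- Direct images along affine open immersions preserve flatness over an open. -/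
theorem flatOn_pushforward (j : Z ⟶ X) [IsOpenImmersion j] [IsAffineHom j] (K : Z.Modules) [hK : Coh.IsQCoh K]
    (U : X.Opens) (h : ∀ z : Z, j z ∈ U → FlatMod.IsFlatAt K z) :
    ∀ x ∈ U, FlatMod.IsFlatAt ((Scheme.Modules.pushforward j).obj K) x := by
  intro x hx
  obtain ⟨W, hW, hxW, hWU⟩ := exists_isAffineOpen_mem_and_subset hx
  have hWU' : W ≤ U := hWU
  haveI hsec : Module.Flat Γ(Z, j ⁻¹ᵁ W) Γ(K, j ⁻¹ᵁ W) :=
    flat_sections_of_flatOn (hW.preimage j) fun z hz => h z (hWU' hz)
  letI := (j.app W).hom.toAlgebra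
  letI : Module Γ(X, W) Γ(K, j ⁻¹ᵁ W) := Module.compHom _ (j.app W).hom
  haveI : IsScalarTower Γ(X, W) Γ(Z, j ⁻¹ᵁ W) Γ(K, j ⁻¹ᵁ W) :=
    IsScalarTower.of_algebraMap_smul fun _ _ => rfl
  haveI : Module.Flat Γ(X, W) Γ(Z, j ⁻¹ᵁ W) := by
    have h2 := j.flat_appLE hW (hW.preimage j) le_rfl
    rw [← Scheme.Hom.app_eq_appLE] at h2
    exact h2
  haveI : Module.Flat Γ(X, W) Γ((Scheme.Modules.pushforward j).obj K, W) :=
    Module.Flat.trans Γ(X, W) Γ(Z, j ⁻¹ᵁ W) Γ(K, j ⁻¹ᵁ W)
  exact PushFin12.flat_stalk_of_flat_sections (M1.isQCoh_push j hK) hW hxW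

theorem flatOn_restrict {U : X.Opens} {M : X.Modules} (h : ∀ x ∈ U, FlatMod.IsFlatAt M x) :
    FlatMod.IsFlat (M.restrict U.ι) := fun z => (flatAt_restrict_iff U.ι M z).2 (h _ z.2)

theorem isFlat_middle {Y : Scheme.{u}} {S : ShortComplex Y.Modules} (hS : S.ShortExact)
    (h₁ : FlatMod.IsFlat S.X₁) (h₃ : FlatMod.IsFlat S.X₃) : FlatMod.IsFlat S.X₂ := by
  have a₁ := (KFlat.Site.isFlat_iff (O := Y.sheaf) S.X₁).1 ((KFlat.Sch.isFlat_iff _).2 h₁)
  have a₃ := (KFlat.Site.isFlat_iff (O := Y.sheaf) S.X₃).1 ((KFlat.Sch.isFlat_iff _).2 h₃)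
  have a₂ := ModFlat16.isFlat_X₂ (O := Y.sheaf) (S := S) hS a₁ a₃
  exact (KFlat.Sch.isFlat_iff _).1 ((KFlat.Site.isFlat_iff (O := Y.sheaf) S.X₂).2 a₂)

/-- An extension of modules flat on an open is flat there. -/
theorem flatOn_middle {A B C : X.Modules} (f : A ⟶ B) (g : B ⟶ C) (w : f ≫ g = 0)
    (hS : (ShortComplex.mk f g w).ShortExact) (U : X.Opens)
    (h₁ : ∀ x ∈ U, FlatMod.IsFlatAt A x) (h₃ : ∀ x ∈ U, FlatMod.IsFlatAt C x) :
    ∀ x ∈ U, FlatMod.IsFlatAt B x := by
  intro x hx
  have hS' := hS.map_of_exact (Scheme.Modules.restrictFunctor U.ι)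
  have h := isFlat_middle hS' (flatOn_restrict h₁) (flatOn_restrict h₃)
  have h' : FlatMod.IsFlatAt (B.restrict U.ι) ⟨x, hx⟩ := h ⟨x, hx⟩
  exact (flatAt_restrict_iff U.ι B ⟨x, hx⟩).1 h'

/-- On an affine scheme a quasi-coherent module is a quotient of a flat one. -/
theorem exists_flat_epi_spec {R : CommRingCat.{u}} (N : (Spec R).Modules) (hN : Coh.IsQCoh N) :
    ∃ (P : (Spec R).Modules) (p : P ⟶ N), Coh.IsQCoh P ∧ FlatMod.IsFlat P ∧ Epi p := by
  haveI : N.IsQuasicoherent := hN
  let G : ModuleCat.{u} R := moduleSpecΓFunctor.obj N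
  let c : (ModuleCat.free R).obj (G : Type u) ⟶ G := (ModuleCat.adj R).counit.app G
  haveI : Epi c := (ModuleCat.epi_iff_surjective c).2 fun g =>
    ⟨ModuleCat.freeMk (R := R) (g : ↑G), ModuleCat.freeDesc_apply _ g⟩
  haveI : Module.Flat R ((ModuleCat.free R).obj (G : Type u)) :=
    inferInstanceAs (Module.Flat R ((G : Type u) →₀ R))
  haveI : Epi ((tilde.functor R).map c) := inferInstance
  refine ⟨(tilde.functor R).obj ((ModuleCat.free R).obj (G : Type u)), (tilde.functor R).map c ≫ N.fromTildeΓ, ?_,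
    DPerf.isFlat_tilde, ?_⟩
  · exact (inferInstance : ((tilde.functor R).obj ((ModuleCat.free R).obj (G : Type u))).IsQuasicoherent)
  · have hi : IsIso N.fromTildeΓ := Scheme.Modules.isIso_fromTildeΓ_of_isQuasicoherent N
    exact @epi_comp _ _ _ _ _ ((tilde.functor R).map c) inferInstance N.fromTildeΓ (@IsIso.epi_of_iso _ _ _ _ N.fromTildeΓ hi)

/-- One step: improve flatness by one affine open. -/
theorem exists_flat_step (M : X.Modules) (hM : Coh.IsQCoh M) (U : X.Opens)
    (hU : ∀ x ∈ U, FlatMod.IsFlatAt M x) {R : CommRingCat.{u}} (j : Spec R ⟶ X) [IsOpenImmersion j]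
    [IsAffineHom j] :
    ∃ (M' : X.Modules) (π : M' ⟶ M), Coh.IsQCoh M' ∧ Epi π ∧
      ∀ x ∈ U ⊔ j.opensRange, FlatMod.IsFlatAt M' x := by
  let adj := Scheme.Modules.restrictAdjunction j
  let N := (Scheme.Modules.restrictFunctor j).obj M
  haveI := hM
  have hN : Coh.IsQCoh N := Scheme.Modules.isQuasicoherent_restrictFunctor j M
  obtain ⟨P, p, hP, hPflat, hp⟩ := exists_flat_epi_spec N hN
  haveI := hp
  let v := (Scheme.Modules.pushforward j).map p
  haveI : Epi v := DirImg11.epi_pushforward_map hP hN p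
  let η : M ⟶ (Scheme.Modules.pushforward j).obj N := adj.unit.app M
  let M' := pullback η v
  let K := (Scheme.Modules.pushforward j).obj (kernel p)
  have hw : (0 : K ⟶ M) ≫ η = (Scheme.Modules.pushforward j).map (kernel.ι p) ≫ v := by
    rw [zero_comp, ← Functor.map_comp, kernel.condition, Functor.map_zero]
  let i : K ⟶ M' := pullback.lift 0 ((Scheme.Modules.pushforward j).map (kernel.ι p)) hw
  haveI : Mono i := mono_of_mono_fac (pullback.lift_snd _ _ hw)
  let S := ShortComplex.mk i (pullback.fst η v) (pullback.lift_fst _ _ hw)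
  have hS : S.ShortExact := by
    have hlim := isLimitForkMapOfIsLimit' (Scheme.Modules.pushforward j) (kernel.condition p) (kernelIsKernel p)
    refine ShortComplex.ShortExact.mk' (ShortComplex.exact_of_f_is_kernel S ?_) ‹Mono i› inferInstance
    refine KernelFork.IsLimit.ofι' i S.zero fun {A} g hg => ?_
    have hg' : (g ≫ pullback.snd η v) ≫ v = 0 := by
      rw [Category.assoc, ← pullback.condition, reassoc_of% hg, zero_comp]
    obtain ⟨l, hl⟩ := KernelFork.IsLimit.lift' hlim _ hg'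
    refine ⟨l, ?_⟩
    apply pullback.hom_ext
    · rw [Category.assoc, pullback.lift_fst, comp_zero, hg]
    · rw [Category.assoc, pullback.lift_snd]
      exact hl
  refine ⟨M', pullback.fst η v,
    M1.isQCoh_fibreProd hM (M1.isQCoh_push j hP) (M1.isQCoh_push j hN) η v, inferInstance, ?_⟩
  intro x hx
  rcases hx with hx | hx
  · refine flatOn_middle _ _ _ hS U ?_ hU x hx
    have hK : Coh.IsQCoh (kernel p) := M1.isQCoh_kernel hP hN p
    haveI := hK
    refine flatOn_pushforward j (kernel p) U fun z hz => ?_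
    let W : (Spec R).Opens := j ⁻¹ᵁ U
    have hSr : ((ShortComplex.mk (kernel.ι p) p (kernel.condition p)).map
        (Scheme.Modules.restrictFunctor W.ι)).ShortExact :=
      (ShortComplex.ShortExact.mk' (ShortComplex.exact_kernel p) inferInstance inferInstance).map_of_exact
        (Scheme.Modules.restrictFunctor W.ι)
    have hk : FlatMod.IsFlat ((kernel p).restrict W.ι) :=
      DPerf.isFlat_kernel _ _ _ hSr (DPerf.isFlat_res W.ι hPflat)
        (flatOn_restrict fun z hz => (flatAt_restrict_iff j M z).2 (hU _ hz))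
    exact (flatAt_restrict_iff W.ι _ ⟨z, hz⟩).1 (hk _)
  · obtain ⟨z, rfl⟩ := hx
    refine (flatAt_restrict_iff j M' z).1 ?_
    have hη : IsIso ((Scheme.Modules.restrictFunctor j).map η) := by
      have h := adj.left_triangle_components M
      haveI : IsIso ((Scheme.Modules.restrictFunctor j).map η ≫
          adj.counit.app ((Scheme.Modules.restrictFunctor j).obj M)) := by
        rw [h]; infer_instance
      exact IsIso.of_isIso_comp_right _ (adj.counit.app ((Scheme.Modules.restrictFunctor j).obj M))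
    haveI := hη
    haveI : IsIso ((Scheme.Modules.restrictFunctor j).map (pullback.snd η v)) := by
      haveI := M1.isIso_restrict_fst v η j hη
      rw [← pullbackSymmetry_hom_comp_fst η v, Functor.map_comp]
      infer_instance
    let e : M'.restrict j ≅ P :=
      asIso ((Scheme.Modules.restrictFunctor j).map (pullback.snd η v)) ≪≫ asIso (adj.counit.app P)
    exact (KFlat.Sch.isFlat_iff _).1 (((KFlat.Sch.isFlat_iff _).2 hPflat).of_iso e) z

/-- Quasi-compact with affine diagonal: quasi-coherent modules are quotients of flat ones. -/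
theorem exists_flat_epi [CompactSpace X]
    (hd : ∀ V W : X.Opens, IsAffineOpen V → IsAffineOpen W → IsAffineOpen (V ⊓ W))
    (M : X.Modules) (hM : Coh.IsQCoh M) :
    ∃ (F : X.Modules) (π : F ⟶ M), Coh.IsQCoh F ∧ FlatMod.IsFlat F ∧ Epi π := by
  obtain ⟨s, hs⟩ := isCompact_univ.elim_finite_subcover (fun V : X.affineOpens => ((V.1 : X.Opens) : Set X))
    (fun V => V.1.isOpen) (fun x _ => by
      obtain ⟨V, hV, hx, -⟩ := exists_isAffineOpen_mem_and_subset (x := x) (U := ⊤) trivial
      exact Set.mem_iUnion.2 ⟨⟨V, hV⟩, hx⟩)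
  suffices H : ∀ t : Finset X.affineOpens, ∃ (F : X.Modules) (π : F ⟶ M), Coh.IsQCoh F ∧ Epi π ∧
      ∀ x, (∃ V ∈ t, x ∈ V.1) → FlatMod.IsFlatAt F x by
    obtain ⟨F, π, hF, hπ, hfl⟩ := H s
    refine ⟨F, π, hF, fun x => hfl x ?_, hπ⟩
    simpa using hs (Set.mem_univ x)
  intro t
  classical
  induction t using Finset.induction_on with
  | empty => exact ⟨M, 𝟙 M, hM, inferInstance, fun x hx => by simp at hx⟩
  | @insert V t hVt ih =>
    obtain ⟨F, π, hF, hπ, hfl⟩ := ih
    haveI := hπ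
    haveI : IsAffineHom V.2.fromSpec := ⟨fun W hW => by
      have h1 : V.2.fromSpec ⁻¹ᵁ W = V.2.fromSpec ⁻¹ᵁ (V.1 ⊓ W) := by
        ext z
        exact ⟨fun hz => ⟨V.2.range_fromSpec.le ⟨z, rfl⟩, hz⟩, fun hz => hz.2⟩
      rw [h1]
      exact (hd _ _ V.2 hW).preimage_of_isOpenImmersion V.2.fromSpec (by
        rw [V.2.opensRange_fromSpec]; exact inf_le_left)⟩
    let U : X.Opens := ⨆ W ∈ t, W.1
    obtain ⟨F', π', hF', hπ', hfl'⟩ := exists_flat_step F hF U (fun x hx => hfl x (by
      simpa [U] using hx)) V.2.fromSpec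
    haveI := hπ'
    refine ⟨F', π' ≫ π, hF', inferInstance, fun x hx => hfl' x ?_⟩
    obtain ⟨W, hW, hxW⟩ := hx
    rcases Finset.mem_insert.1 hW with hWV | hW
    · exact Or.inr (V.2.range_fromSpec.ge (hWV ▸ hxW : x ∈ V.1))
    · exact Or.inl (TopologicalSpace.Opens.mem_iSup.2 ⟨W, TopologicalSpace.Opens.mem_iSup.2 ⟨hW, hxW⟩⟩)

end Groth.Agent.ResProp14
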