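import Groth.Agent.Lib.ResProp14.FlatCover
import Groth.Agent.Lib.ModM1.Extend
import Groth.Agent.Lib.ModM1.Coh
import Groth.Agent.Lib.ModM1.FT
import Groth.Prelude.Def_Coh

/-!
On a Noetherian integral scheme with affine diagonal every coherent module is a quotient of a torsion-free
coherent one (ns `Groth.Agent.ResProp14`): `exists_tf_qcoh_epi`, `exists_tf_coh_epi`.
-/

set_option backward.isDefEq.respectTransparency.types false

universe u

open CategoryTheory Limits AlgebraicGeometry Opposite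

namespace Groth.Agent.ResProp14

variable {X : Scheme.{u}}

/-- Torsion-free at a point. -/
def TFAt (M : X.Modules) (x : X) : Prop :=
  NoZeroSMulDivisors ↥(X.presheaf.stalk x) ↥(M.presheaf.stalk x)

theorem tfAt_of_injective {M N : X.Modules} (a : M ⟶ N) {x : X}
    (hi : Function.Injective ((M1.stalkAb x).map a)) (h : TFAt N x) : TFAt M x := by
  refine ⟨fun {r m} hrm => ?_⟩
  have h0 : r • RefHull.stalkMapₗ a x m = 0 := by rw [← map_smul, hrm, map_zero]
  rcases h.eq_zero_or_eq_zero_of_smul_eq_zero h0 with h1 | h1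
  · exact Or.inl h1
  · exact Or.inr (hi (h1.trans (map_zero _).symm))

/-- A module mapping jointly monomorphically to two torsion-free ones is torsion-free. -/
theorem tfAt_of_two {A B C : X.Modules} (a : A ⟶ B) (b : A ⟶ C) [Mono (kernel.ι a ≫ b)] {x : X}
    (hB : TFAt B x) (hC : TFAt C x) : TFAt A x := by
  refine ⟨fun {r m} hrm => or_iff_not_imp_left.2 fun hr => ?_⟩
  have ha : RefHull.stalkMapₗ a x m = 0 :=
    (hB.eq_zero_or_eq_zero_of_smul_eq_zero (by rw [← map_smul, hrm, map_zero])).resolve_left hr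
  have hb : RefHull.stalkMapₗ b x m = 0 :=
    (hC.eq_zero_or_eq_zero_of_smul_eq_zero (by rw [← map_smul, hrm, map_zero])).resolve_left hr
  have hex : (ShortComplex.mk (kernel.ι a) a (kernel.condition a)).Exact := ShortComplex.exact_kernel a
  obtain ⟨l, hl⟩ := (ShortComplex.ab_exact_iff _).1 ((M1.exact_iff_stalk _).1 hex x) m ha
  change (M1.stalkAb x).map (kernel.ι a) l = m at hl
  have hk : (M1.stalkAb x).map (kernel.ι a ≫ b) l = 0 := by
    rw [Functor.map_comp, ConcreteCategory.comp_apply, hl]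
    exact hb
  rw [← hl, (KFlat.Sch.mono_iff_stalk (kernel.ι a ≫ b)).1 inferInstance x (hk.trans (map_zero _).symm)]
  exact map_zero _

theorem tfAt_of_flatAt [IsIntegral X] {M : X.Modules} {x : X} (h : FlatMod.IsFlatAt M x) : TFAt M x := by
  haveI : Module.Flat ↥(X.presheaf.stalk x) ↥(M.presheaf.stalk x) := h
  exact ⟨fun h => smul_eq_zero.1 h⟩

/-- One step: improve torsion-freeness by one affine open. -/
theorem exists_tf_step [IsIntegral X] (M : X.Modules) (hM : Coh.IsQCoh M) (U : X.Opens)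
    (hU : ∀ x ∈ U, TFAt M x) {R : CommRingCat.{u}} (j : Spec R ⟶ X) [IsOpenImmersion j]
    [IsAffineHom j] :
    ∃ (M' : X.Modules) (π : M' ⟶ M), Coh.IsQCoh M' ∧ Epi π ∧
      ∀ x ∈ U ⊔ j.opensRange, TFAt M' x := by
  let adj := Scheme.Modules.restrictAdjunction j
  let N := (Scheme.Modules.restrictFunctor j).obj M
  haveI := hM
  have hN : Coh.IsQCoh N := Scheme.Modules.isQuasicoherent_restrictFunctor j M
  obtain ⟨P, p, hP, hPflat, hp⟩ := exists_flat_epi_spec N hN
  haveI := hp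
  let v := (Scheme.Modules.pushforward j).map p
  haveI : Epi v := DirImg11.epi_pushforward_map hP hN p
  let η : M ⟶ (Scheme.Modules.pushforward j).obj N := adj.unit.app M
  have hk : Mono (kernel.ι (pullback.fst η v) ≫ pullback.snd η v) := by
    refine Preadditive.mono_of_cancel_zero _ fun {T} g hg => ?_
    rw [← cancel_mono (kernel.ι (pullback.fst η v)), zero_comp]
    apply pullback.hom_ext
    · rw [Category.assoc, kernel.condition, comp_zero, zero_comp]
    · rw [Category.assoc, hg, zero_comp]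
  haveI := hP
  have hPtf : ∀ x : X, TFAt ((Scheme.Modules.pushforward j).obj P) x := fun x =>
    tfAt_of_flatAt (flatOn_pushforward j P ⊤ (fun z _ => hPflat z) x trivial)
  refine ⟨pullback η v, pullback.fst η v,
    M1.isQCoh_fibreProd hM (M1.isQCoh_push j hP) (M1.isQCoh_push j hN) η v, inferInstance, ?_⟩
  intro x hx
  rcases hx with hx | hx
  · exact tfAt_of_two (pullback.fst η v) (pullback.snd η v) (hU x hx) (hPtf x)
  · obtain ⟨z, rfl⟩ := hx
    have hη : IsIso ((Scheme.Modules.restrictFunctor j).map η) := by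
      have h := adj.left_triangle_components M
      haveI : IsIso ((Scheme.Modules.restrictFunctor j).map η ≫
          adj.counit.app ((Scheme.Modules.restrictFunctor j).obj M)) := by
        rw [h]; infer_instance
      exact IsIso.of_isIso_comp_right _ (adj.counit.app ((Scheme.Modules.restrictFunctor j).obj M))
    haveI := hη
    haveI := M1.isIso_restrict_snd η v j hη
    let e : (pullback η v).restrict j ≅ P :=
      asIso ((Scheme.Modules.restrictFunctor j).map (pullback.snd η v)) ≪≫ asIso (adj.counit.app P)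
    exact tfAt_of_flatAt ((flatAt_restrict_iff j _ z).1
      ((KFlat.Sch.isFlat_iff _).1 (((KFlat.Sch.isFlat_iff _).2 hPflat).of_iso e) z))

/-- Quasi-compact integral with affine diagonal: quasi-coherent modules are quotients of torsion-free ones. -/
theorem exists_tf_qcoh_epi [CompactSpace X] [IsIntegral X]
    (hd : ∀ V W : X.Opens, IsAffineOpen V → IsAffineOpen W → IsAffineOpen (V ⊓ W))
    (M : X.Modules) (hM : Coh.IsQCoh M) :
    ∃ (F : X.Modules) (π : F ⟶ M), Coh.IsQCoh F ∧ (∀ x, TFAt F x) ∧ Epi π := by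
  obtain ⟨s, hs⟩ := isCompact_univ.elim_finite_subcover (fun V : X.affineOpens => ((V.1 : X.Opens) : Set X))
    (fun V => V.1.isOpen) (fun x _ => by
      obtain ⟨V, hV, hx, -⟩ := exists_isAffineOpen_mem_and_subset (x := x) (U := ⊤) trivial
      exact Set.mem_iUnion.2 ⟨⟨V, hV⟩, hx⟩)
  suffices H : ∀ t : Finset X.affineOpens, ∃ (F : X.Modules) (π : F ⟶ M), Coh.IsQCoh F ∧ Epi π ∧
      ∀ x, (∃ V ∈ t, x ∈ V.1) → TFAt F x by
    obtain ⟨F, π, hF, hπ, hfl⟩ := H s
    refine ⟨F, π, hF, fun x => hfl x ?_, hπ⟩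
    simpa using hs (Set.mem_univ x)
  intro t
  classical
  induction t using Finset.induction_on with
  | empty => exact ⟨M, 𝟙 M, hM, inferInstance, fun x hx => by simp at hx⟩
  | @insert V t hVt ih =>
    obtain ⟨F, π, hF, hπ, hfl⟩ := ih
    haveI := hπ
    haveI : IsAffineHom V.2.fromSpec := ⟨fun W hW => by
      have h1 : V.2.fromSpec ⁻¹ᵁ W = V.2.fromSpec ⁻¹ᵁ (V.1 ⊓ W) := by
        ext z
        exact ⟨fun hz => ⟨V.2.range_fromSpec.le ⟨z, rfl⟩, hz⟩, fun hz => hz.2⟩
      rw [h1]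
      exact (hd _ _ V.2 hW).preimage_of_isOpenImmersion V.2.fromSpec (by
        rw [V.2.opensRange_fromSpec]; exact inf_le_left)⟩
    let U : X.Opens := ⨆ W ∈ t, W.1
    obtain ⟨F', π', hF', hπ', hfl'⟩ := exists_tf_step F hF U (fun x hx => hfl x (by
      simpa [U] using hx)) V.2.fromSpec
    haveI := hπ'
    refine ⟨F', π' ≫ π, hF', inferInstance, fun x hx => hfl' x ?_⟩
    obtain ⟨W, hW, hxW⟩ := hx
    rcases Finset.mem_insert.1 hW with hWV | hW
    · exact Or.inr (V.2.range_fromSpec.ge (hWV ▸ hxW : x ∈ V.1))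
    · exact Or.inl (TopologicalSpace.Opens.mem_iSup.2 ⟨W, TopologicalSpace.Opens.mem_iSup.2 ⟨hW, hxW⟩⟩)

/-- A quasi-coherent module surjecting onto a coherent one has, for each affine open, a coherent
submodule whose sections there surject. -/
theorem exists_coh_sub_surjective [IsNoetherian X] {F M : X.Modules} (hF : Coh.IsQCoh F)
    (hM : Coh.IsCoh M) (π : F ⟶ M) [Epi π] (V : X.affineOpens) :
    ∃ q : M1.Sub F, Coh.IsCoh q.P ∧
      ∀ x ∈ V.1, Function.Surjective ((M1.stalkAb x).map (q.i ≫ π)) := by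
  let j := V.2.fromSpec
  haveI := hM.1
  haveI := hF
  have hMj : Coh.IsQCoh (M.restrict j) := M1.isQCoh_restrict hM.1 j
  have hFj : Coh.IsQCoh (F.restrict j) := M1.isQCoh_restrict hF j
  obtain ⟨J, hJ, φ, hφ⟩ := M1.exists_epi_fr_spec (M.restrict j) hMj (M1.isFT_restrict hM.2 j)
  haveI := hJ
  haveI := hφ
  haveI : Epi ((Scheme.Modules.restrictFunctor j).map π) := inferInstance
  choose t ht using fun i => M1.app_surjective_affine_of_isQCoh hFj hMj
    ((Scheme.Modules.restrictFunctor j).map π) (isAffineOpen_top _) (M1.freeSec φ i)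
  let ψ : M1.fr J ⟶ F.restrict j := M1.freeHom t
  have hψ : ψ ≫ (Scheme.Modules.restrictFunctor j).map π = φ := by
    rw [M1.freeHom_comp]
    simp only [ht]
    exact M1.freeHom_freeSec φ
  let H : M1.Sub (F.restrict j) := M1.Sub.im ψ
  let p₀ := M1.Sub.ext j H
  obtain ⟨e, he⟩ := M1.Sub.exists_iso (p₀.res j) H (M1.Sub.mem_res_ext j H)
  have hq₀ : Coh.IsQCoh (p₀.P.restrict j) :=
    M1.isQCoh_of_isIso e.symm (M1.Sub.isQCoh_im ψ (M1.isQCoh_fr _ _) hFj)
  have hf₀ : CohB1.IsFT (p₀.P.restrict j) :=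
    M1.isFT_of_isIso e.symm (M1.Sub.isFT_im ψ (M1.isFT_fr _ _))
  have hr : Set.range j ⊆ Set.range V.1.ι := by
    rw [Scheme.Opens.range_ι, V.2.range_fromSpec]
  have hc (y : (V.1 : Scheme.{u})) : ∃ _ : Unit, y ∈ Set.range (IsOpenImmersion.lift V.1.ι j hr) := by
    obtain ⟨z, hz⟩ : V.1.ι y ∈ Set.range j := V.2.range_fromSpec.ge y.2
    refine ⟨(), z, V.1.ι.isOpenEmbedding.injective ?_⟩
    rw [← Scheme.Hom.comp_apply, IsOpenImmersion.lift_fac]
    exact hz
  have hFT : M1.Sub.FTOn p₀ V.1 :=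
    ⟨M1.isQCoh_of_openImmersion_cover _ hc fun _ =>
      M1.isQCoh_of_isIso (M1.restrictLiftIso p₀.P V.1.ι j hr).symm hq₀,
    M1.isFT_of_openImmersion_cover _ hc fun _ =>
      M1.isFT_of_isIso (M1.restrictLiftIso p₀.P V.1.ι j hr).symm hf₀⟩
  obtain ⟨q, hqQ, hqF, hag⟩ := M1.Sub.exists_extend_noetherian hF
    (fun x => ⟨⊤, trivial, (inferInstance : TopologicalSpace.NoetherianSpace (Set.univ : Set X))⟩) p₀ V.1 hFT
  refine ⟨q, ⟨hqQ, hqF⟩, ?_⟩
  obtain ⟨e', he'⟩ := M1.Sub.exists_res_iso j q p₀ (by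
    rw [V.2.opensRange_fromSpec]; exact hag.symm)
  let c : M1.fr J ⟶ q.P.restrict j :=
    kernel.lift (cokernel.π ψ) ψ (cokernel.condition ψ) ≫ e.inv ≫ e'.inv
  have hcq : c ≫ (Scheme.Modules.restrictFunctor j).map q.i = ψ := by
    have h1 : e'.inv ≫ (Scheme.Modules.restrictFunctor j).map q.i = (p₀.res j).i :=
      (Iso.inv_comp_eq _).2 he'.symm
    have h2 : e.inv ≫ (p₀.res j).i = H.i := (Iso.inv_comp_eq _).2 he.symm
    simp only [c, Category.assoc]
    refine (congrArg (fun w => kernel.lift (cokernel.π ψ) ψ (cokernel.condition ψ) ≫ e.inv ≫ w) h1).trans ?_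
    refine (congrArg (fun w => kernel.lift (cokernel.π ψ) ψ (cokernel.condition ψ) ≫ w) h2).trans ?_
    exact kernel.lift_ι _ _ _
  haveI : Epi (c ≫ (Scheme.Modules.restrictFunctor j).map (q.i ≫ π)) := by
    rw [Functor.map_comp, reassoc_of% hcq, hψ]; exact hφ
  haveI : Epi ((Scheme.Modules.restrictFunctor j).map (q.i ≫ π)) :=
    epi_of_epi c ((Scheme.Modules.restrictFunctor j).map (q.i ≫ π))
  intro x hx
  obtain ⟨z, rfl⟩ : x ∈ Set.range j := V.2.range_fromSpec.ge hx
  intro b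
  obtain ⟨b', rfl⟩ := (ConcreteCategory.bijective_of_isIso
    ((Scheme.Modules.restrictStalkNatIso j z).hom.app M)).2 b
  obtain ⟨a, rfl⟩ := (M1.epi_iff_stalk ((Scheme.Modules.restrictFunctor j).map (q.i ≫ π))).1 inferInstance z b'
  refine ⟨(Scheme.Modules.restrictStalkNatIso j z).hom.app q.P a, ?_⟩
  exact (ConcreteCategory.congr_hom ((Scheme.Modules.restrictStalkNatIso j z).hom.naturality (q.i ≫ π)) a).symm

/-- Noetherian integral with affine diagonal: coherent modules are quotients of torsion-free coherent ones. -/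
theorem exists_tf_coh_epi [IsNoetherian X] [IsIntegral X]
    (hd : ∀ V W : X.Opens, IsAffineOpen V → IsAffineOpen W → IsAffineOpen (V ⊓ W))
    (M : X.Modules) (hM : Coh.IsCoh M) :
    ∃ (G : X.Modules) (π : G ⟶ M), Coh.IsCoh G ∧ (∀ x, TFAt G x) ∧ Epi π := by
  obtain ⟨F, π, hF, htf, hπ⟩ := exists_tf_qcoh_epi hd M hM.1
  haveI := hπ
  choose q hq hqs using exists_coh_sub_surjective hF hM π
  obtain ⟨s, hs⟩ := isCompact_univ.elim_finite_subcover (fun V : X.affineOpens => ((V.1 : X.Opens) : Set X))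
    (fun V => V.1.isOpen) (fun x _ => by
      obtain ⟨V, hV, hx, -⟩ := exists_isAffineOpen_mem_and_subset (x := x) (U := ⊤) trivial
      exact Set.mem_iUnion.2 ⟨⟨V, hV⟩, hx⟩)
  haveI : Nonempty X.affineOpens := ⟨⟨⊥, isAffineOpen_bot X⟩⟩
  suffices H : ∀ l : List X.affineOpens, ∀ V₀ : X.affineOpens, ∃ (G : X.Modules) (a : G ⟶ M),
      Coh.IsCoh G ∧ (∀ x, TFAt G x) ∧
      ∀ V ∈ V₀ :: l, ∀ x ∈ V.1, Function.Surjective ((M1.stalkAb x).map a) by
    obtain ⟨G, a, hG, hGtf, hsur⟩ := H s.toList (Classical.arbitrary _)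
    refine ⟨G, a, hG, hGtf, (M1.epi_iff_stalk _).2 fun x => ?_⟩
    obtain ⟨V, hV, hxV⟩ := Set.mem_iUnion₂.1 (hs (Set.mem_univ x))
    exact hsur V (List.mem_cons_of_mem _ (Finset.mem_toList.2 hV)) x hxV
  intro l
  induction l with
  | nil =>
    intro V₀
    exact ⟨(q V₀).P, (q V₀).i ≫ π, hq V₀,
      fun x => tfAt_of_injective (q V₀).i ((KFlat.Sch.mono_iff_stalk _).1 (q V₀).mono x) (htf x),
      fun V hV x hx => by rw [List.mem_singleton.1 hV] at hx; exact hqs V₀ x hx⟩
  | cons V₁ l ih =>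
    intro V₀
    obtain ⟨G, a, hG, hGtf, hsur⟩ := ih V₁
    refine ⟨(q V₀).P ⊞ G, biprod.desc ((q V₀).i ≫ π) a, M1.isCoh_biprod (hq V₀) hG, fun x => ?_,
      fun V hV x hx b => ?_⟩
    · haveI : Mono (kernel.ι (biprod.fst : (q V₀).P ⊞ G ⟶ _) ≫ biprod.snd) :=
        Preadditive.mono_of_cancel_zero _ fun {T} g hg => by
          rw [← cancel_mono (kernel.ι (biprod.fst : (q V₀).P ⊞ G ⟶ _)), zero_comp]
          apply biprod.hom_ext
          · rw [Category.assoc, kernel.condition, comp_zero, zero_comp]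
          · rw [Category.assoc, hg, zero_comp]
      exact tfAt_of_two biprod.fst biprod.snd
        (tfAt_of_injective (q V₀).i ((KFlat.Sch.mono_iff_stalk _).1 (q V₀).mono x) (htf x)) (hGtf x)
    · rcases List.mem_cons.1 hV with hV | hV
      · subst hV
        obtain ⟨c, hc⟩ := hqs V x hx b
        refine ⟨(M1.stalkAb x).map biprod.inl c, ?_⟩
        rw [← ConcreteCategory.comp_apply, ← Functor.map_comp, biprod.inl_desc, hc]
      · obtain ⟨c, hc⟩ := hsur V hV x hx b
        refine ⟨(M1.stalkAb x).map biprod.inr c, ?_⟩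
        rw [← ConcreteCategory.comp_apply, ← Functor.map_comp, biprod.inr_desc, hc]

end Groth.Agent.ResProp14
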